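import Mathlib

/-!
# Landau's equation with a predicate on the largest denominator

If `1 = ∑ 1 / nᵢ` (a fixed number of terms), the largest `nᵢ` satisfies a predicate checked by enumeration. For
five terms: it is at most `924` or equal to `1806`.
-/

set_option autoImplicit false

namespace Cfsg.Agent.H61.S4790.LandauP

/-- All representations of `a / b` as a sum of `k` unit fractions with denominators at least `lo` in
increasing order have last denominator satisfying `P`. -/
def chk (P : ℕ → Bool) : ℕ → ℕ → ℕ → ℕ → Bool
  | 0, _, _, _ => true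
  | 1, a, b, _ => (b % a != 0) || P (b / a)
  | k + 2, a, b, lo =>
    (List.range' (max lo (b / a + 1)) ((k + 2) * b / a + 1 - max lo (b / a + 1))).all
      fun x => chk P (k + 1) (a * x - b) (b * x) x

theorem chk_sound (P : ℕ → Bool) : ∀ (k a b lo : ℕ), 0 < a → 0 < b → chk P k a b lo = true →
    ∀ l : List ℕ, l.length = k → l.Pairwise (· ≤ ·) → (∀ x ∈ l, 0 < x ∧ lo ≤ x) →
      (l.map (fun x : ℕ => (1 : ℚ) / x)).sum = a / b → ∀ x ∈ l, (∀ y ∈ l, y ≤ x) → P x = true
  | 0, a, b, lo, _, _, _, l, hl, _, _, _ => by
    rw [List.length_eq_zero_iff] at hl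
    subst hl
    intro x hx
    simp at hx
  | 1, a, b, lo, ha, hb, hc, l, hl, _, hpos, hs => by
    obtain ⟨n, rfl⟩ := List.length_eq_one_iff.1 hl
    intro x hx _
    have hxn : x = n := by simpa using hx
    subst hxn
    have hn := (hpos x (by simp)).1
    rw [List.map_singleton, List.sum_singleton] at hs
    have h1 : a * x = b := by
      have hx0 : (x : ℚ) ≠ 0 := by positivity
      have hb0 : (b : ℚ) ≠ 0 := by positivity
      rw [div_eq_div_iff hx0 hb0, one_mul] at hs
      exact_mod_cast hs.symm
    rw [chk] at hc
    rw [Bool.or_eq_true] at hc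
    rcases hc with hc | hc
    · exfalso
      rw [← h1] at hc
      simp at hc
    · rw [← h1, Nat.mul_div_cancel_left _ ha] at hc
      exact hc
  | k + 2, a, b, lo, ha, hb, hc, l, hl, hsort, hpos, hs => by
    cases l with
    | nil => simp at hl
    | cons n t =>
      rw [List.length_cons] at hl
      have hlt : t.length = k + 1 := by omega
      have hn := hpos n (by simp)
      rw [List.pairwise_cons] at hsort
      rw [List.map_cons, List.sum_cons] at hs
      have hn0 : (0 : ℚ) < n := by exact_mod_cast hn.1
      have hb0 : (0 : ℚ) < b := by exact_mod_cast hb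
      have ha0 : (0 : ℚ) < a := by exact_mod_cast ha
      -- the sum of the tail is positive
      have htpos : (0 : ℚ) < (t.map (fun x : ℕ => (1 : ℚ) / x)).sum := by
        apply List.sum_pos
        · intro y hy
          rw [List.mem_map] at hy
          obtain ⟨x, hx, rfl⟩ := hy
          have := (hpos x (List.mem_cons_of_mem _ hx)).1
          positivity
        · intro h
          rw [List.map_eq_nil_iff] at h
          rw [h] at hlt
          simp at hlt
      have htle : (t.map (fun x : ℕ => (1 : ℚ) / x)).sum ≤ (k + 1 : ℕ) * (1 / n) := by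
        have h1 := List.sum_le_card_nsmul (t.map (fun x : ℕ => (1 : ℚ) / x)) (1 / n) (by
          intro y hy
          rw [List.mem_map] at hy
          obtain ⟨x, hx, rfl⟩ := hy
          have h2 := hsort.1 x hx
          exact one_div_le_one_div_of_le hn0 (by exact_mod_cast h2))
        rw [List.length_map, hlt, nsmul_eq_mul] at h1
        exact h1
      have h1 : (1 : ℚ) / n < a / b := by rw [← hs]; linarith
      have h2 : (a : ℚ) / b ≤ (k + 2 : ℕ) * (1 / n) := by
        rw [← hs]
        push_cast at htle ⊢
        linarith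
      have h3 : b < a * n := by
        rw [div_lt_div_iff₀ hn0 hb0, one_mul] at h1
        exact_mod_cast h1
      have h4 : a * n ≤ (k + 2) * b := by
        rw [mul_one_div, div_le_div_iff₀ hb0 hn0] at h2
        exact_mod_cast h2
      have h5 : b / a + 1 ≤ n := by
        rw [Nat.add_one_le_iff, Nat.div_lt_iff_lt_mul ha, mul_comm]
        exact h3
      have h6 : n ≤ (k + 2) * b / a := by
        rw [Nat.le_div_iff_mul_le ha, mul_comm]
        exact h4
      rw [chk, List.all_eq_true] at hc
      have hc' := hc n (by
        rw [List.mem_range'_1]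
        constructor
        · exact max_le hn.2 h5
        · omega)
      have hab : ((a * n - b : ℕ) : ℚ) = a * n - b := by
        rw [Nat.cast_sub h3.le]
        push_cast
        ring
      have hts : (t.map (fun x : ℕ => (1 : ℚ) / x)).sum = ((a * n - b : ℕ) : ℚ) / ((b * n : ℕ) : ℚ) := by
        have : (t.map (fun x : ℕ => (1 : ℚ) / x)).sum = a / b - 1 / n := by rw [← hs]; ring
        rw [this, hab]
        push_cast
        field_simp
      have ih := chk_sound P (k + 1) (a * n - b) (b * n) n (by omega) (Nat.mul_pos hb hn.1) hc' t hlt hsort.2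
        (fun x hx => ⟨(hpos x (List.mem_cons_of_mem _ hx)).1, hsort.1 x hx⟩) hts
      intro x hx hmax
      rcases List.mem_cons.1 hx with rfl | hx
      · -- `x = n` is maximal, so it is equal to the elements of the tail
        cases t with
        | nil => simp at hlt
        | cons m s =>
          have h7 : m = x := le_antisymm (hmax m (by simp)) (hsort.1 m (by simp))
          refine ih x (by rw [← h7]; simp) fun y hy => hmax y (List.mem_cons_of_mem _ hy)
      · exact ih x hx fun y hy => hmax y (List.mem_cons_of_mem _ hy)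

theorem of_chk {P : ℕ → Bool} {ι : Type*} [Fintype ι] (h : chk P (Fintype.card ι) 1 1 1 = true) (n : ι → ℕ)
    (hn : ∀ i, 0 < n i) (hs : ∑ i, (1 : ℚ) / n i = 1) (i : ι) (hi : ∀ j, n j ≤ n i) : P (n i) = true := by
  classical
  let m : Multiset ℕ := Finset.univ.val.map n
  let l := m.sort (· ≤ ·)
  have hl : (l : Multiset ℕ) = m := Multiset.sort_eq m (· ≤ ·)
  have hmem : ∀ x, x ∈ l ↔ x ∈ m := fun x => by rw [← hl]; rfl
  refine chk_sound P _ 1 1 1 one_pos one_pos h l ?_ ?_ ?_ ?_ (n i) ?_ ?_
  · rw [Multiset.length_sort, Multiset.card_map]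
    rfl
  · exact Multiset.pairwise_sort m (· ≤ ·)
  · intro x hx
    rw [hmem, Multiset.mem_map] at hx
    obtain ⟨i, -, rfl⟩ := hx
    exact ⟨hn i, hn i⟩
  · have h1 : (l.map (fun x : ℕ => (1 : ℚ) / x)).sum = ((l : Multiset ℕ).map (fun x : ℕ => (1 : ℚ) / x)).sum := by
      rw [Multiset.map_coe, Multiset.sum_coe]
    rw [h1, hl, Multiset.map_map, Nat.cast_one, div_one]
    exact hs
  · rw [hmem]
    exact Multiset.mem_map_of_mem n (Finset.mem_univ_val i)
  · intro y hy
    rw [hmem, Multiset.mem_map] at hy
    obtain ⟨j, -, rfl⟩ := hy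
    exact hi j

/-- The order of a group with `k` classes. -/
theorem card_of_chk {P : ℕ → Bool} {G : Type*} [Group G] [Finite G]
    (h : chk P (Nat.card (ConjClasses G)) 1 1 1 = true) : P (Nat.card G) = true := by
  classical
  have := Fintype.ofFinite G
  have := Fintype.ofFinite (ConjClasses G)
  have hG : 0 < Nat.card G := Nat.card_pos
  -- class sizes
  let s : ConjClasses G → ℕ := fun c => Nat.card c.carrier
  have hs0 : ∀ c, 0 < s c := by
    intro c
    obtain ⟨g, rfl⟩ := ConjClasses.mk_surjective c
    have : Nonempty (ConjClasses.mk g).carrier := ⟨⟨g, ConjClasses.mem_carrier_mk⟩⟩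
    exact Nat.card_pos
  have hdvd : ∀ c, s c ∣ Nat.card G := by
    intro c
    obtain ⟨g, rfl⟩ := ConjClasses.mk_surjective c
    have h1 : (ConjClasses.mk g).carrier = MulAction.orbit (ConjAct G) g := by
      rw [ConjAct.orbit_eq_carrier_conjClasses]
    change Nat.card (ConjClasses.mk g).carrier ∣ _
    rw [h1]
    have h2 := MulAction.index_stabilizer (ConjAct G) g
    rw [Nat.card_coe_set_eq, ← h2]
    exact (Subgroup.index_dvd_card _).trans (by rw [Nat.card_congr (ConjAct.ofConjAct (G := G)).toEquiv])
  have hsum : ∑ c, s c = Nat.card G := by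
    have := Group.sum_card_conj_classes_eq_card G
    rw [← this, finsum_eq_sum_of_fintype]
    rfl
  rw [Nat.card_eq_fintype_card (α := ConjClasses G)] at h
  have h1 : s (ConjClasses.mk (1 : G)) = 1 := by
    change Nat.card (ConjClasses.mk (1 : G)).carrier = 1
    have : (ConjClasses.mk (1 : G)).carrier = {1} := by
      ext x
      rw [ConjClasses.mem_carrier_iff_mk_eq, ConjClasses.mk_eq_mk_iff_isConj, isConj_one_left]
      rfl
    rw [this]
    simp
  have key := of_chk h (fun c => Nat.card G / s c) (fun c => Nat.div_pos (Nat.le_of_dvd hG (hdvd c)) (hs0 c)) (by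
    have h1 : ∀ c, (1 : ℚ) / ((Nat.card G / s c : ℕ) : ℚ) = (s c : ℚ) / Nat.card G := by
      intro c
      rw [Nat.cast_div (hdvd c) (by have := hs0 c; positivity), one_div_div]
    rw [Finset.sum_congr rfl fun c _ => h1 c, ← Finset.sum_div, ← Nat.cast_sum, hsum]
    exact div_self (by positivity)) (ConjClasses.mk 1) (fun c => by
      simp only [h1, Nat.div_one]
      exact Nat.div_le_self _ _)
  simp only [h1, Nat.div_one] at key
  exact key

/-- A group with five classes has at most `924` elements or exactly `1806`. -/
theorem card_five {G : Type*} [Group G] [Finite G] (h : Nat.card (ConjClasses G) = 5) :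
    Nat.card G ≤ 924 ∨ Nat.card G = 1806 := by
  have h1 := card_of_chk (P := fun n => decide (n ≤ 924) || decide (n = 1806)) (G := G) (by
    rw [h]
    decide +kernel)
  simpa using h1

end Cfsg.Agent.H61.S4790.LandauP
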