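import Mathlib
import Cfsg.Agent.H697.Alm.Defs
import Cfsg.Agent.H698.Landau
import Cfsg.Agent.H698.Count
import Cfsg.Agent.H717.Dickson
import Cfsg.Agent.H717.SmallClass
import Cfsg.Agent.H61.S4790.LandauP

/-!
# S4790, `lin_small`: coprime irreducible linear groups over small prime fields

`4 (p - 1) < (k(D) + r) ^ 2` for `5 ≤ p < 23`, where `r` is the number of orbits on nonzero vectors.
-/

set_option autoImplicit false

namespace Cfsg.Agent.H61.S4790

open Cfsg Cfsg.Agent Module
open Cfsg.Agent.H697.Alm (orb IrrAct)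
open Cfsg.Agent.H697

universe u v

/-- `|E| - 1` is at most the number of orbits times the group order. -/
theorem card_le_orb (D : Type v) (E : Type u) [Group D] [AddCommGroup E] [DistribMulAction D E] [Finite D] [Finite E] :
    Nat.card E ≤ orb D E * Nat.card D + 1 := by
  classical
  have := Fintype.ofFinite E
  have := Fintype.ofFinite (MulAction.orbitRel.Quotient D E)
  let f : E → MulAction.orbitRel.Quotient D E := fun e => Quotient.mk _ e
  have hf : ∀ a b : E, f a = f b ↔ a ∈ MulAction.orbit D b := by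
    intro a b
    exact Quotient.eq (r := MulAction.orbitRel D E)
  have h1 : (Finset.univ.erase (0 : E)).card ≤
      Nat.card D * ((Finset.univ : Finset (MulAction.orbitRel.Quotient D E)).erase (f 0)).card := by
    refine Finset.card_le_mul_card_image_of_maps_to (f := f) ?_ _ ?_
    · intro e he
      rw [Finset.mem_erase] at he ⊢
      refine ⟨fun h => he.1 ?_, Finset.mem_univ _⟩
      obtain ⟨d, hd⟩ := (hf e 0).1 h
      have hd' : d • (0 : E) = e := hd
      rw [← hd', smul_zero]
    · intro c hc
      obtain ⟨x, rfl⟩ := Quotient.exists_rep c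
      have h2 : (MulAction.orbit D x).ncard ≤ Nat.card D := by
        rw [← MulAction.index_stabilizer]
        exact Nat.le_of_dvd Nat.card_pos (Subgroup.index_dvd_card _)
      refine le_trans ?_ h2
      rw [Set.ncard_eq_toFinset_card']
      refine Finset.card_le_card fun y hy => ?_
      rw [Set.mem_toFinset]
      exact (hf y x).1 (Finset.mem_filter.1 hy).2
  rw [Finset.card_erase_of_mem (Finset.mem_univ _), Finset.card_erase_of_mem (Finset.mem_univ _),
    Finset.card_univ, Finset.card_univ, ← Nat.card_eq_fintype_card, ← Nat.card_eq_fintype_card] at h1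
  have h2 : orb D E = Nat.card (MulAction.orbitRel.Quotient D E) - 1 := rfl
  rw [← h2, mul_comm] at h1
  omega

theorem card_le_six {G : Type*} [Group G] [Finite G] (h : Nat.card (ConjClasses G) ≤ 3) : Nat.card G ≤ 6 := by
  refine H698.Landau.card_le_of_chk ?_
  generalize Nat.card (ConjClasses G) = k at h
  interval_cases k <;> decide +kernel

/-- A coprime linear group of degree two with at most five classes has fewer than `96` elements. -/
theorem dim_two {D E : Type u} [Group D] [Finite D] [AddCommGroup E] [DistribMulAction D E]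
    [FaithfulSMul D E] (p : ℕ) [hp : Fact p.Prime] [Module (ZMod p) E] (hfr : finrank (ZMod p) E = 2)
    (hcop : ¬ p ∣ Nat.card D) (hk : Nat.card (ConjClasses D) ≤ 5) : Nat.card D < 96 := by
  by_contra hcon
  push Not at hcon
  have hlin : ∀ (d : D) (c : ZMod p) (e : E), d • (c • e) = c • (d • e) := by
    intro d c e
    exact ZMod.map_smul (DistribSMul.toAddMonoidHom E d) c e
  obtain ⟨Z, hZn, hZ, hcases⟩ := H717.Dickson.cases (K := ZMod p) p (D := D) (E := E) hfr hlin hcop
  have hcent : (Subgroup.centralizer (Z : Set D)).index ≤ 1 := by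
    have : Subgroup.centralizer (Z : Set D) = ⊤ := by
      rw [eq_top_iff]
      intro d _
      rw [Subgroup.mem_centralizer_iff]
      intro z hz
      obtain ⟨c, hc⟩ := (hZ z).1 hz
      apply FaithfulSMul.eq_of_smul_eq_smul (α := E)
      intro e
      rw [mul_smul, mul_smul, hc, hc, hlin]
    rw [this, Subgroup.index_top]
  obtain ⟨z, hz1, hz2⟩ := H698.Count.count Z hcent
  have hDZ := Subgroup.card_eq_card_quotient_mul_card_subgroup Z
  rcases hcases with ⟨B, hBn, hBc, hBi, -⟩ | ⟨⟨g⟩⟩ | ⟨⟨g⟩⟩ | ⟨⟨g⟩⟩
  · have h1 := ClassCount.card_le_mul_index B hBc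
    have h2 := B.card_mul_index
    have h3 := Nat.le_of_dvd (by norm_num) hBi
    have h4 : Nat.card D ≤ 2 * 5 * 2 := by
      calc Nat.card D = Nat.card B * B.index := h2.symm
        _ ≤ (B.index * Nat.card (ConjClasses D)) * B.index := Nat.mul_le_mul_right _ h1
        _ ≤ (2 * 5) * 2 := Nat.mul_le_mul (Nat.mul_le_mul h3 hk) h3
    omega
  · have h1 : Nat.card (D ⧸ Z) = 12 := by
      rw [Nat.card_congr g.toEquiv, nat_card_alternatingGroup, Nat.card_eq_fintype_card, Fintype.card_fin]
      decide
    have h2 : Nat.card (ConjClasses (D ⧸ Z)) = 4 := by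
      rw [ClassCount.card_conjClasses_congr g, H717.SmallClass.conj_alt_four]
    rw [h1] at hDZ
    omega
  · have h1 : Nat.card (D ⧸ Z) = 24 := by
      rw [Nat.card_congr g.toEquiv, Nat.card_perm, Nat.card_eq_fintype_card, Fintype.card_fin]
      decide
    have h2 : Nat.card (ConjClasses (D ⧸ Z)) = 5 := by
      rw [ClassCount.card_conjClasses_congr g, H717.SmallClass.conj_sym_four]
    rw [h1] at hDZ
    omega
  · have h1 : Nat.card (D ⧸ Z) = 60 := by
      rw [Nat.card_congr g.toEquiv, nat_card_alternatingGroup, Nat.card_eq_fintype_card, Fintype.card_fin]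
      decide
    have h2 : Nat.card (ConjClasses (D ⧸ Z)) = 5 := by
      rw [ClassCount.card_conjClasses_congr g, H717.SmallClass.conj_alt_five]
    rw [h1] at hDZ
    omega

/-- A group acting faithfully on a group with `17 ^ 3` elements has order prime to `43`. -/
theorem not_43 {D E : Type u} [Group D] [Finite D] [AddCommGroup E] [Finite E] [DistribMulAction D E]
    [FaithfulSMul D E] (hE : Nat.card E = 17 ^ 3) : ¬ 43 ∣ Nat.card D := by
  intro h
  have : Fact (Nat.Prime 43) := ⟨by norm_num⟩
  obtain ⟨g, hg⟩ := exists_prime_orderOf_dvd_card' 43 h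
  have hP : IsPGroup 43 (Subgroup.zpowers g) := IsPGroup.of_card (n := 1) (by rw [Nat.card_zpowers, hg, pow_one])
  have h1 := hP.card_modEq_card_fixedPoints E
  have h2 : Nat.card (MulAction.fixedPoints (Subgroup.zpowers g) E) ∣ 17 ^ 3 := by
    rw [← hE]
    exact AddSubgroup.card_addSubgroup_dvd_card (FixedPoints.addSubgroup (Subgroup.zpowers g) E)
  obtain ⟨j, hj, hj2⟩ := (Nat.dvd_prime_pow (by norm_num : Nat.Prime 17)).1 h2
  rw [hE, hj2] at h1
  have h3 : j = 3 := by
    interval_cases j
    · exact absurd h1 (by decide)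
    · exact absurd h1 (by decide)
    · exact absurd h1 (by decide)
    · rfl
  subst h3
  have h4 : MulAction.fixedPoints (Subgroup.zpowers g) E = Set.univ := by
    have h5 : (MulAction.fixedPoints (Subgroup.zpowers g) E).ncard = (Set.univ : Set E).ncard := by
      rw [Set.ncard_univ, hE, ← hj2, Nat.card_coe_set_eq]
    exact Set.eq_of_subset_of_ncard_le (Set.subset_univ _) h5.ge (Set.toFinite _)
  have h5 : g = 1 := by
    apply FaithfulSMul.eq_of_smul_eq_smul (α := E)
    intro e
    rw [one_smul]
    have h6 : e ∈ MulAction.fixedPoints (Subgroup.zpowers g) E := by rw [h4]; exact Set.mem_univ _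
    exact h6 ⟨g, Subgroup.mem_zpowers g⟩
  rw [h5, orderOf_one] at hg
  omega

theorem am_gm (a b : ℕ) : 4 * (b * a) ≤ (a + b) ^ 2 := by
  rcases le_total a b with h | h
  · obtain ⟨c, rfl⟩ := Nat.exists_eq_add_of_le h
    nlinarith [Nat.zero_le (c ^ 2)]
  · obtain ⟨c, rfl⟩ := Nat.exists_eq_add_of_le h
    nlinarith [Nat.zero_le (c ^ 2)]

theorem le_of_sq {s m : ℕ} (c : ℕ) (h : s ^ 2 ≤ m) (hm : m < (c + 1) ^ 2) : s ≤ c := by
  by_contra hc
  push Not at hc
  have h1 : (c + 1) ^ 2 ≤ s ^ 2 := Nat.pow_le_pow_left hc 2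
  omega

variable {D E : Type u} [Group D] [Finite D] [AddCommGroup E] [Finite E] [Nontrivial E] [DistribMulAction D E]
  [FaithfulSMul D E] {F : Type u} [Field F] [Finite F] [Module F E]

set_option linter.unusedVariables false in
/-- T15 -/
theorem lin_small {p : ℕ} [Fact p.Prime] (h5 : 5 ≤ p) (h22 : p < 23) (hpE : ∀ e : E, p • e = 0)
    (hcop : ¬ p ∣ Nat.card D) (hirr : IrrAct D E) (hne : Nat.card E ≠ p)
    (htwo : orb D E ≤ 2 → (orb D E = 1 ∧ p = 11 ∧ Nat.card (ConjClasses D) = 9) ∨
      p - 1 < orb D E * Nat.card (ConjClasses D)) :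
    4 * (p - 1) < (Nat.card (ConjClasses D) + orb D E) ^ 2 := by
  have hp : p.Prime := Fact.out
  rcases Nat.lt_or_ge 2 (orb D E) with hr | hr
  swap
  · rcases htwo hr with ⟨h1, h2, h3⟩ | h
    · rw [h1, h2, h3]
      norm_num
    · exact lt_of_lt_of_le (Nat.mul_lt_mul_of_pos_left h (by norm_num)) (am_gm _ _)
  let _ : Module (ZMod p) E := AddCommGroup.zmodModule (n := p) hpE
  have hfin : Module.Finite (ZMod p) E := Module.Finite.of_finite
  obtain ⟨n, hn⟩ : ∃ n, finrank (ZMod p) E = n := ⟨_, rfl⟩
  have hE : Nat.card E = p ^ n := by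
    rw [Module.natCard_eq_pow_finrank (K := ZMod p), Nat.card_zmod, hn]
  have hn2 : 2 ≤ n := by
    by_contra hcon
    have : n = 0 ∨ n = 1 := by omega
    rcases this with rfl | rfl
    · have := Finite.one_lt_card (α := E)
      rw [hE, pow_zero] at this
      omega
    · exact hne (by rw [hE, pow_one])
  have hcard := card_le_orb D E
  rw [hE] at hcard
  have hk1 : 1 ≤ Nat.card (ConjClasses D) := Nat.card_pos
  by_contra hcon
  push Not at hcon
  have hp2 : p ^ 2 ≤ p ^ n := Nat.pow_le_pow_right hp.pos hn2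
  -- few classes
  have h3 : Nat.card (ConjClasses D) ≤ 3 → Nat.card D ≤ 6 := card_le_six
  have h2 : Nat.card (ConjClasses D) ≤ 2 → Nat.card D ≤ 2 := ClassCount.card_le_two
  have h4 : Nat.card (ConjClasses D) ≤ 4 → Nat.card D ≤ 42 := H698.Landau.le_42
  have h55 : Nat.card (ConjClasses D) = 5 → Nat.card D ≤ 924 ∨ Nat.card D = 1806 := LandauP.card_five
  obtain ⟨k, hk⟩ : ∃ k, Nat.card (ConjClasses D) = k := ⟨_, rfl⟩
  obtain ⟨r, hr'⟩ : ∃ r, orb D E = r := ⟨_, rfl⟩
  have hd96 : n = 2 → k ≤ 5 → Nat.card D < 96 := by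
    intro hn2 hk5
    exact dim_two p (hn.trans hn2) hcop (hk.le.trans hk5)
  have h43 : p = 17 → n = 3 → ¬ 43 ∣ Nat.card D := by
    rintro rfl rfl
    exact not_43 hE
  obtain ⟨N, hN⟩ : ∃ N, Nat.card D = N := ⟨_, rfl⟩
  rw [hk] at hcon hk1 h2 h3 h4 h55
  rw [hr'] at hcon hcard hr
  rw [hN] at hcard h2 h3 h4 h55 hd96 h43
  clear hE hn hne htwo hirr hcop hk hr' hN
  have hpn : ∀ m, m ≤ n → p ^ m ≤ p ^ n := fun m hm => Nat.pow_le_pow_right hp.pos hm
  -- the primes
  have hpp : p = 5 ∨ p = 7 ∨ p = 11 ∨ p = 13 ∨ p = 17 ∨ p = 19 := by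
    interval_cases p <;> first | omega | (exfalso; revert hp; norm_num)
  have small : ∀ {c : ℕ}, N ≤ c → r * c + 1 < p ^ 2 → False := by
    intro c hc hlt
    have h6 : r * N ≤ r * c := Nat.mul_le_mul_left _ hc
    omega
  rcases hpp with rfl | rfl | rfl | rfl | rfl | rfl
  · have hk' : k + r ≤ 4 := le_of_sq 4 hcon (by norm_num)
    have hr9 : r ≤ 3 := by omega
    interval_cases r
    exact small (h2 (by omega)) (by norm_num)
  · have hk' : k + r ≤ 4 := le_of_sq 4 hcon (by norm_num)
    have hr9 : r ≤ 3 := by omega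
    interval_cases r
    exact small (h2 (by omega)) (by norm_num)
  · have hk' : k + r ≤ 6 := le_of_sq 6 hcon (by norm_num)
    have hr9 : r ≤ 5 := by omega
    interval_cases r
    · exact small (h3 (by omega)) (by norm_num)
    · exact small (h2 (by omega)) (by norm_num)
    · exact small (h2 (by omega)) (by norm_num)
  · have hk' : k + r ≤ 6 := le_of_sq 6 hcon (by norm_num)
    have hr9 : r ≤ 5 := by omega
    interval_cases r
    · exact small (h3 (by omega)) (by norm_num)
    · exact small (h2 (by omega)) (by norm_num)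
    · exact small (h2 (by omega)) (by norm_num)
  · -- `p = 17`
    have hk' : k + r ≤ 8 := le_of_sq 8 hcon (by norm_num)
    rcases Nat.lt_or_ge k 5 with hk4 | hk5
    · rcases Nat.lt_or_ge 4 r with hr4 | hr4
      · have hr8 : r ≤ 7 := by omega
        exact small (h3 (by omega)) (by interval_cases r <;> norm_num)
      · exact small (h4 (by omega)) (by interval_cases r <;> norm_num)
    · obtain rfl : k = 5 := by omega
      obtain rfl : r = 3 := by omega
      have h6 := h55 rfl
      rcases Nat.lt_or_ge n 3 with h7 | h7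
      · have h8 := hd96 (by omega) le_rfl
        omega
      · rcases Nat.lt_or_ge n 4 with h8 | h8
        · obtain rfl : n = 3 := by omega
          have h9 := h43 rfl rfl
          rcases h6 with h6 | h6
          · norm_num at hcard
            omega
          · rw [h6] at h9
            exact h9 ⟨42, by norm_num⟩
        · have h9 := hpn 4 h8
          norm_num at h9
          omega
  · -- `p = 19`
    have hk' : k + r ≤ 8 := le_of_sq 8 hcon (by norm_num)
    rcases Nat.lt_or_ge k 5 with hk4 | hk5
    · rcases Nat.lt_or_ge 4 r with hr4 | hr4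
      · have hr8 : r ≤ 7 := by omega
        exact small (h3 (by omega)) (by interval_cases r <;> norm_num)
      · exact small (h4 (by omega)) (by interval_cases r <;> norm_num)
    · obtain rfl : k = 5 := by omega
      obtain rfl : r = 3 := by omega
      have h6 := h55 rfl
      rcases Nat.lt_or_ge n 3 with h7 | h7
      · have h8 := hd96 (by omega) le_rfl
        omega
      · have h9 := hpn 3 h7
        norm_num at h9
        omega

end Cfsg.Agent.H61.S4790
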